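/-
Projective schemes are defined over finitely generated subrings.
-/
import Groth.Agent.L02.ConsP.FGA
import Groth.Agent.L05.DescendFP
import Groth.Agent.L19.Limit.Finite
import Groth.Agent.L23.SchemeFacts
import Groth.Agent.L02.Quot.ProjQuot
import Groth.Prelude.Def_Neron
import Mathlib.RingTheory.DiscreteValuationRing.Basic
import Mathlib.FieldTheory.IntermediateField.Adjoin.Basic

/-!
# Descent of projective schemes to finitely generated subrings and finite subextensions

A closed subscheme of projective space over a Noetherian ring comes from a finitely generated subring.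
-/

set_option autoImplicit false
set_option linter.style.haveILetI false
set_option backward.isDefEq.respectTransparency.types false

universe u

open CategoryTheory CategoryTheory.Limits AlgebraicGeometry Opposite

noncomputable section

namespace Groth.Agent.ProjDescent

open Groth.L19.Limit L02.ConsP.FGA CohB1

/-- The map of projective spaces over a map of bases. -/
def pmap (n : ℕ) {S S' : Scheme.{u}} (φ : S' ⟶ S) : ProjSpaceOver n S' ⟶ ProjSpaceOver n S :=
  show pullback (ProjSpace.toSpec n (ULift.{u} ℤ)) (specULiftZIsTerminal.from S') ⟶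
      pullback (ProjSpace.toSpec n (ULift.{u} ℤ)) (specULiftZIsTerminal.from S) from
  pullback.lift (pullback.fst _ _) (pullback.snd _ _ ≫ φ) (by
    rw [pullback.condition, Category.assoc, specULiftZIsTerminal.hom_ext (φ ≫ specULiftZIsTerminal.from S) (specULiftZIsTerminal.from S')])

/-- The projection to the absolute projective space. -/
def pfst (n : ℕ) (S : Scheme.{u}) : ProjSpaceOver n S ⟶ ProjSpace n (ULift.{u} ℤ) := pullback.fst _ _

theorem pmap_pfst (n : ℕ) {S S' : Scheme.{u}} (φ : S' ⟶ S) : pmap n φ ≫ pfst n S = pfst n S' :=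
  pullback.lift_fst _ _ _

theorem pmap_toBase (n : ℕ) {S S' : Scheme.{u}} (φ : S' ⟶ S) :
    pmap n φ ≫ ProjSpaceOver.toBase n S = ProjSpaceOver.toBase n S' ≫ φ :=
  pullback.lift_snd _ _ _

theorem isPullback_pfst (n : ℕ) (S : Scheme.{u}) :
    IsPullback (pfst n S) (ProjSpaceOver.toBase n S) (ProjSpace.toSpec n (ULift.{u} ℤ)) (specULiftZIsTerminal.from S) :=
  IsPullback.of_hasPullback _ _

theorem isPullback_pmap (n : ℕ) {S S' : Scheme.{u}} (φ : S' ⟶ S) :
    IsPullback (pmap n φ) (ProjSpaceOver.toBase n S') (ProjSpaceOver.toBase n S) φ := by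
  refine IsPullback.of_right ?_ (pmap_toBase n φ) (isPullback_pfst n S)
  rw [pmap_pfst, specULiftZIsTerminal.hom_ext (φ ≫ specULiftZIsTerminal.from S) (specULiftZIsTerminal.from S')]
  exact isPullback_pfst n S'

theorem pmap_comp (n : ℕ) {S S' S'' : Scheme.{u}} (φ : S' ⟶ S) (ψ : S'' ⟶ S') :
    pmap n (ψ ≫ φ) = pmap n ψ ≫ pmap n φ := by
  refine (isPullback_pfst n S).hom_ext ?_ ?_
  · rw [pmap_pfst, Category.assoc, pmap_pfst, pmap_pfst]
  · rw [pmap_toBase, Category.assoc, pmap_toBase, ← Category.assoc, ← Category.assoc, pmap_toBase]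

variable (R₀ A : Type u) [CommRing R₀] [CommRing A] [Algebra R₀ A] [IsNoetherianRing A]

/-- A closed subscheme of projective space descends to all subrings containing suitable finitely many elements. -/
theorem exists_model {n : ℕ} {X : Scheme.{u}} (i : X ⟶ ProjSpaceOver n (Spec (CommRingCat.of A)))
    [IsClosedImmersion i] :
    ∃ A₀ : Subalgebra R₀ A, A₀.FG ∧ ∀ (B : Type u) [CommRing B] (φ : B →+* A) (ι : A₀ →+* B),
      φ.comp ι = algebraMap A₀ A →
      ∃ (X' : Scheme.{u}) (i' : X' ⟶ ProjSpaceOver n (Spec (CommRingCat.of B))) (g : X ⟶ X'),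
        IsClosedImmersion i' ∧
          IsPullback g i i' (pmap n (Spec.map (CommRingCat.ofHom φ))) := by
  let c := specCone R₀ A
  have hc : IsLimit c := isLimitSpecCone R₀ A
  obtain ⟨s₀⟩ := IsCofiltered.nonempty (C := (FG R₀ A)ᵒᵖ)
  let T := ProjSpaceOver n ((specDiagram R₀ A).obj s₀)
  let g₀ : T ⟶ (specDiagram R₀ A).obj s₀ := ProjSpaceOver.toBase n _
  have hpr : ∀ S : Scheme.{u}, IsProper (ProjSpaceOver.toBase n S) := fun S =>
    MorphismProperty.pullback_snd (P := @IsProper) _ _
      (inferInstanceAs (IsProper (CohB1.ProjSpace.toSpec n (ULift.{u} ℤ))))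
  haveI : IsProper g₀ := hpr _
  have sq : IsPullback (pmap n (c.π.app s₀)) (ProjSpaceOver.toBase n (Spec (CommRingCat.of A))) g₀ (c.π.app s₀) :=
    isPullback_pmap n _
  let c' := sqCone (D := specDiagram R₀ A) (c := c) (i := s₀) (g := g₀) sq
  have hc' : IsLimit c' := isLimitSqCone (g := g₀) hc sq
  haveI : ∀ k : Over s₀, CompactSpace ((bcDiagram (specDiagram R₀ A) g₀).obj k) := fun k =>
    @QuasiCompact.compactSpace_of_compactSpace _ _ (pullback.fst ((specDiagram R₀ A).map k.hom) g₀)
      (MorphismProperty.pullback_fst _ _ (inferInstance : QuasiCompact g₀)) _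
  haveI : ∀ k : Over s₀, QuasiSeparatedSpace ((bcDiagram (specDiagram R₀ A) g₀).obj k) := fun k =>
    @quasiSeparatedSpace_of_quasiSeparated _ _ (pullback.fst ((specDiagram R₀ A).map k.hom) g₀)
      _ (MorphismProperty.pullback_fst _ _ (inferInstance : QuasiSeparated g₀))
  haveI : ∀ {a b} (f : a ⟶ b), IsAffineHom ((bcDiagram (specDiagram R₀ A) g₀).map f) := fun f =>
    inferInstance
  haveI : IsProper (ProjSpaceOver.toBase n (Spec (CommRingCat.of A))) := hpr _
  haveI : IsLocallyNoetherian (ProjSpaceOver n (Spec (CommRingCat.of A))) :=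
    LocallyOfFiniteType.isLocallyNoetherian (ProjSpaceOver.toBase n (Spec (CommRingCat.of A)))
  haveI : LocallyOfFinitePresentation (X := X) (Y := c'.pt) i := Groth.L23.lfp_of_lft_locallyNoetherian i
  haveI hcl : IsClosedImmersion (X := X) (Y := c'.pt) i := ‹IsClosedImmersion i›
  haveI : QuasiCompact (X := X) (Y := c'.pt) i := @inferInstance (QuasiCompact (X := X) (Y := c'.pt) i) _
  haveI : QuasiSeparated (X := X) (Y := c'.pt) i := @inferInstance (QuasiSeparated (X := X) (Y := c'.pt) i) _
  obtain ⟨j, Xj, fj, g, h1, h2, h3, hsq⟩ := Groth.L05.DescendFP.exists_stage hc' (X := X) i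
  obtain ⟨k, ψ, hk⟩ := descends_isClosedImmersion hc' fj ⟨⟨h2, h3⟩, inferInstance⟩
    ((pb_iff_of_isPullback hsq).mp ‹IsClosedImmersion i›)
  refine ⟨k.left.unop.1, k.left.unop.2, fun B _ φ ι hι => ?_⟩
  let b : Spec (CommRingCat.of B) ⟶ (specDiagram R₀ A).obj k.left := Spec.map (CommRingCat.ofHom ι)
  have hb : Spec.map (CommRingCat.ofHom φ) ≫ b = c.π.app k.left := by
    exact (Spec.map_comp (CommRingCat.ofHom ι) (CommRingCat.ofHom φ)).symm.trans
      (congrArg Spec.map (CommRingCat.hom_ext hι))
  let q : ProjSpaceOver n (Spec (CommRingCat.of B)) ⟶ (bcDiagram (specDiagram R₀ A) g₀).obj k :=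
    pullback.lift (ProjSpaceOver.toBase n _ ≫ b) (pmap n (b ≫ (specDiagram R₀ A).map k.hom))
      ((Category.assoc _ _ _).trans (isPullback_pmap n (b ≫ (specDiagram R₀ A).map k.hom)).w.symm)
  have hq : pmap n (Spec.map (CommRingCat.ofHom φ)) ≫ q = c'.π.app k := by
    refine pullback.hom_ext ?_ ?_
    · refine ((Category.assoc _ _ _).trans ((congrArg (pmap n (Spec.map (CommRingCat.ofHom φ)) ≫ ·)
        (pullback.lift_fst _ _ _)).trans ?_)).trans (toStage_fst sq k).symm
      exact (Category.assoc _ _ _).symm.trans ((congrArg (· ≫ b) (pmap_toBase n _)).trans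
        ((Category.assoc _ _ _).trans (congrArg (ProjSpaceOver.toBase n _ ≫ ·) hb)))
    · refine ((Category.assoc _ _ _).trans ((congrArg (pmap n (Spec.map (CommRingCat.ofHom φ)) ≫ ·)
        (pullback.lift_snd _ _ _)).trans ?_)).trans (toStage_snd sq k).symm
      exact (pmap_comp n _ _).symm.trans (congrArg (pmap n) ((Category.assoc _ _ _).symm.trans
        ((congrArg (· ≫ (specDiagram R₀ A).map k.hom) hb).trans (c.w k.hom))))
  let fk := pullback.fst ((bcDiagram (specDiagram R₀ A) g₀).map ψ) fj
  have hsqk : IsPullback (pullback.lift (i ≫ c'.π.app k) g ((Category.assoc _ _ _).trans ((congrArg (i ≫ ·) (c'.w ψ)).trans hsq.w.symm))) i fk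
      (c'.π.app k) := by
    refine IsPullback.of_right ?_ (pullback.lift_fst _ _ _)
      (IsPullback.of_hasPullback ((bcDiagram (specDiagram R₀ A) g₀).map ψ) fj).flip
    rw [pullback.lift_snd]
    exact (c'.w ψ).symm ▸ hsq
  haveI : IsClosedImmersion fk := hk
  let l : X ⟶ pullback fk q := pullback.lift
    (pullback.lift (i ≫ c'.π.app k) g ((Category.assoc _ _ _).trans ((congrArg (i ≫ ·) (c'.w ψ)).trans hsq.w.symm)))
    (i ≫ pmap n (Spec.map (CommRingCat.ofHom φ))) (by rw [pullback.lift_fst, Category.assoc, hq])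
  refine ⟨pullback fk q, pullback.snd fk q, l, inferInstance, ?_⟩
  refine IsPullback.of_right (h₁₂ := pullback.fst fk q) (h₂₂ := q) ?_ (pullback.lift_snd _ _ _)
    (IsPullback.of_hasPullback fk q)
  rw [pullback.lift_fst, hq]
  exact hsqk

end Groth.Agent.ProjDescent
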