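/-
Descent of projective schemes to finite subextensions of valuation rings.
-/
import Groth.Agent.L26.ProjDescent.Model

/-!
# Intersections of a discrete valuation ring with finite subextensions

The intersection is a discrete valuation ring over which a given projective scheme is defined.
-/

set_option autoImplicit false
set_option linter.style.haveILetI false
set_option backward.isDefEq.respectTransparency.types false

universe u

open CategoryTheory CategoryTheory.Limits AlgebraicGeometry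

noncomputable section

namespace Groth.Agent.ProjDescent

/-- A discrete valuation ring meets a subfield containing one of its non-units in a discrete valuation ring. -/
theorem isDiscreteValuationRing_inf {OL L : Type u} [CommRing OL] [IsDomain OL] [IsDiscreteValuationRing OL]
    [Field L] [Algebra OL L] [IsFractionRing OL L] (F : Subfield L) (a : OL) (ha0 : a ≠ 0) (hau : ¬ IsUnit a)
    (haF : algebraMap OL L a ∈ F) :
    IsDiscreteValuationRing ↥((algebraMap OL L).range ⊓ F.toSubring) := by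
  classical
  have hinj : Function.Injective (algebraMap OL L) := IsFractionRing.injective OL L
  obtain ⟨ϖ, hϖ⟩ := IsDiscreteValuationRing.exists_irreducible OL
  let P : ℕ → Prop := fun m => 0 < m ∧ ∃ u : OLˣ, algebraMap OL L ((u : OL) * ϖ ^ m) ∈ F
  have hP : ∃ m, P m := by
    obtain ⟨m, u, rfl⟩ := IsDiscreteValuationRing.eq_unit_mul_pow_irreducible ha0 hϖ
    refine ⟨m, Nat.pos_of_ne_zero fun h => hau ?_, u, haF⟩
    rw [h, pow_zero, mul_one]
    exact u.isUnit
  obtain ⟨hm, u, hu⟩ := Nat.find_spec hP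
  let m := Nat.find hP
  let B := (algebraMap OL L).range ⊓ F.toSubring
  let p : B := ⟨algebraMap OL L ((u : OL) * ϖ ^ m), ⟨_, rfl⟩, hu⟩
  have hϖ0 : ϖ ≠ 0 := hϖ.ne_zero
  have hp0 : (u : OL) * ϖ ^ m ≠ 0 := mul_ne_zero u.ne_zero (pow_ne_zero _ hϖ0)
  have hunit : ∀ (w : OLˣ) (hw : algebraMap OL L w ∈ F), IsUnit (⟨algebraMap OL L w, ⟨_, rfl⟩, hw⟩ : B) :=
    fun w hw => by
    refine IsUnit.of_mul_eq_one (b := ⟨algebraMap OL L (w⁻¹ : OLˣ), ⟨_, rfl⟩, ?_⟩) ?_
    · rw [map_units_inv]
      exact F.inv_mem hw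
    · exact Subtype.ext (by
        show algebraMap OL L w * algebraMap OL L (w⁻¹ : OLˣ) = 1
        rw [← map_mul, Units.mul_inv, map_one])
  have hfac : ∀ x : B, x ≠ 0 → ∃ (q : ℕ) (v : Bˣ), x = v * p ^ q := by
    rintro ⟨_, ⟨y, rfl⟩, hy⟩ hx
    have hy0 : y ≠ 0 := fun h => hx (Subtype.ext (by simp [h]))
    obtain ⟨r, w, rfl⟩ := IsDiscreteValuationRing.eq_unit_mul_pow_irreducible hy0 hϖ
    let q := r / m
    have hr : algebraMap OL L (((w * (u ^ q)⁻¹ : OLˣ) : OL) * ϖ ^ (r % m)) ∈ F := by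
      have hq := F.pow_mem hu q
      have heq : algebraMap OL L (((w * (u ^ q)⁻¹ : OLˣ) : OL) * ϖ ^ (r % m)) *
          (algebraMap OL L ((u : OL) * ϖ ^ m)) ^ q = algebraMap OL L (w * ϖ ^ r) := by
        rw [← map_pow, ← map_mul]
        congr 1
        rw [Units.val_mul, mul_pow, ← pow_mul]
        calc (w : OL) * ((u ^ q)⁻¹ : OLˣ) * ϖ ^ (r % m) * ((u : OL) ^ q * ϖ ^ (m * q))
            = (w : OL) * (((u ^ q)⁻¹ : OLˣ) * ((u ^ q : OLˣ) : OL)) * (ϖ ^ (r % m) * ϖ ^ (m * q)) := by
              rw [Units.val_pow_eq_pow_val]; ring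
          _ = w * ϖ ^ r := by rw [Units.inv_mul, mul_one, ← pow_add, Nat.mod_add_div]
      have hne : (algebraMap OL L ((u : OL) * ϖ ^ m)) ^ q ≠ 0 :=
        pow_ne_zero _ ((map_ne_zero_iff _ hinj).2 hp0)
      rw [eq_div_of_mul_eq hne heq]
      exact F.div_mem hy hq
    have hr0 : r % m = 0 := by
      by_contra h
      exact absurd (Nat.mod_lt r hm) (not_lt.2 (Nat.find_min' hP ⟨Nat.pos_of_ne_zero h, _, hr⟩))
    rw [hr0, pow_zero, mul_one] at hr
    refine ⟨q, (hunit _ hr).unit, Subtype.ext ?_⟩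
    show algebraMap OL L (w * ϖ ^ r) = algebraMap OL L ((w * (u ^ q)⁻¹ : OLˣ) : OL) * (p ^ q : B)
    rw [SubmonoidClass.coe_pow, show (p : L) = algebraMap OL L ((u : OL) * ϖ ^ m) from rfl, ← map_pow, ← map_mul]
    congr 1
    rw [Units.val_mul, mul_pow, ← pow_mul]
    conv_lhs => rw [← Nat.div_add_mod r m, hr0, add_zero]
    calc (w : OL) * ϖ ^ (m * q) = (w : OL) * (((u ^ q)⁻¹ : OLˣ) * ((u ^ q : OLˣ) : OL)) * ϖ ^ (m * q) := by
          rw [Units.inv_mul, mul_one]
      _ = _ := by rw [Units.val_pow_eq_pow_val]; ring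
  have hpnu : ¬ IsUnit p := by
    intro h
    obtain ⟨⟨_, ⟨y, rfl⟩, _⟩, hb⟩ := h.exists_right_inv
    have h1 : ((u : OL) * ϖ ^ m) * y = 1 := hinj (by
      rw [map_mul, map_one]; exact congrArg Subtype.val hb)
    have h2 : IsUnit ((u : OL) * ϖ ^ m) := IsUnit.of_mul_eq_one y h1
    exact hϖ.not_isUnit ((isUnit_pow_iff hm.ne').1 (isUnit_of_mul_isUnit_right h2))
  have hpne : p ≠ 0 := fun h => hp0 (hinj (by rw [map_zero]; exact congrArg Subtype.val h))
  refine IsDiscreteValuationRing.ofHasUnitMulPowIrreducibleFactorization ⟨p, ⟨hpnu, ?_⟩, ?_⟩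
  · intro b c hbc
    have hb0 : b ≠ 0 := fun h => hpne (by rw [hbc, h, zero_mul])
    have hc0 : c ≠ 0 := fun h => hpne (by rw [hbc, h, mul_zero])
    obtain ⟨q, v, rfl⟩ := hfac b hb0
    obtain ⟨q', v', rfl⟩ := hfac c hc0
    rcases Nat.eq_zero_or_pos q with rfl | hq
    · exact Or.inl (by simp)
    rcases Nat.eq_zero_or_pos q' with rfl | hq'
    · exact Or.inr (by simp)
    refine absurd (IsUnit.of_mul_eq_one ((v : B) * v' * p ^ (q + q' - 2)) (mul_left_cancel₀ hpne ?_) : IsUnit p) hpnu
    rw [mul_one]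
    conv_rhs => rw [hbc]
    rw [show (v : B) * p ^ q * (v' * p ^ q') = v * v' * p ^ (q + q') by rw [pow_add]; ring,
      show q + q' = (q + q' - 2) + 2 by omega, pow_add]
    simp only [Nat.add_sub_cancel]
    ring
  · intro x hx
    obtain ⟨q, v, rfl⟩ := hfac x hx
    exact ⟨q, v, mul_comm _ _⟩

/-- Projective schemes over a discrete valuation ring descend to finite subextensions. -/
theorem exists_descent (OK OL K L : Type u) [CommRing OK] [IsDomain OK] [IsDiscreteValuationRing OK]
    [CommRing OL] [IsDomain OL] [IsDiscreteValuationRing OL] [Field K] [Field L]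
    [Algebra OK K] [IsFractionRing OK K] [Algebra OL L] [IsFractionRing OL L]
    [Algebra OK OL] [Algebra K L] [Algebra OK L] [IsScalarTower OK OL L] [IsScalarTower OK K L]
    (hinj : Function.Injective (algebraMap OK OL)) (hloc : IsLocalHom (algebraMap OK OL))
    [Algebra.IsAlgebraic K L]
    {X : Scheme.{u}} (p : X ⟶ Spec (CommRingCat.of OL)) (hp : Neron.IsProjectiveOver OL (Over.mk p)) :
    ∃ (K' : IntermediateField K L) (_ : FiniteDimensional K K')
      (φ : ↥((algebraMap OL L).range ⊓ K'.toSubring) →+* OL)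
      (_ : ∀ x : ↥((algebraMap OL L).range ⊓ K'.toSubring), algebraMap OL L (φ x) = (x : L))
      (_ : IsDiscreteValuationRing ↥((algebraMap OL L).range ⊓ K'.toSubring))
      (X' : Scheme.{u}) (p' : X' ⟶ Spec (CommRingCat.of ↥((algebraMap OL L).range ⊓ K'.toSubring)))
      (_ : Neron.IsProjectiveOver ↥((algebraMap OL L).range ⊓ K'.toSubring) (Over.mk p'))
      (e : X ≅ pullback p' (Spec.map (CommRingCat.ofHom φ))),
      e.hom ≫ pullback.snd p' (Spec.map (CommRingCat.ofHom φ)) = p := by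
  classical
  obtain ⟨n, i, hi, hip⟩ := hp
  haveI := hi
  obtain ⟨A₀, ⟨s, hs⟩, hA⟩ := exists_model OK OL i
  let S : Set L := algebraMap OL L '' (s : Set OL)
  let K' : IntermediateField K L := IntermediateField.adjoin K S
  haveI : Finite S := (s.finite_toSet.image _).to_subtype
  haveI hfd : FiniteDimensional K K' :=
    IntermediateField.finiteDimensional_adjoin fun x _ => Algebra.IsIntegral.isIntegral x
  have hOK : ∀ r : OK, algebraMap OL L (algebraMap OK OL r) ∈ K' := fun r => by
    rw [← IsScalarTower.algebraMap_apply, IsScalarTower.algebraMap_apply OK K L]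
    exact K'.algebraMap_mem _
  have hA₀ : ∀ a ∈ A₀, algebraMap OL L a ∈ K' := by
    intro a ha
    rw [← hs] at ha
    induction ha using Algebra.adjoin_induction with
    | mem x hx => exact IntermediateField.subset_adjoin K S ⟨x, hx, rfl⟩
    | algebraMap r => exact hOK r
    | add a b _ _ ha hb => rw [map_add]; exact add_mem ha hb
    | mul a b _ _ ha hb => rw [map_mul]; exact mul_mem ha hb
  let B := (algebraMap OL L).range ⊓ K'.toSubring
  have hinjL : Function.Injective (algebraMap OL L) := IsFractionRing.injective OL L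
  let e₀ : OL ≃+* (algebraMap OL L).range :=
    RingEquiv.ofBijective (algebraMap OL L).rangeRestrict
      ⟨fun a b h => hinjL (congrArg Subtype.val h), (algebraMap OL L).rangeRestrict_surjective⟩
  let φ : B →+* OL := e₀.symm.toRingHom.comp (Subring.inclusion inf_le_left)
  have hφ : ∀ x : B, algebraMap OL L (φ x) = x := fun x =>
    congrArg Subtype.val (e₀.apply_symm_apply (Subring.inclusion inf_le_left x))
  obtain ⟨π, hπ⟩ := IsDiscreteValuationRing.exists_irreducible OK
  have hdvr : IsDiscreteValuationRing B :=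
    isDiscreteValuationRing_inf K'.toSubfield (algebraMap OK OL π) ((map_ne_zero_iff _ hinj).2 hπ.ne_zero)
      (fun h => hπ.not_isUnit (hloc.map_nonunit _ h)) (hOK π)
  let ι : A₀ →+* B := ((algebraMap OL L).comp (algebraMap A₀ OL)).codRestrict B fun a => ⟨⟨_, rfl⟩, hA₀ a.1 a.2⟩
  obtain ⟨X', i', g, hi', hsq⟩ := hA B φ ι (RingHom.ext fun a => hinjL (hφ (ι a)))
  let p' := i' ≫ CohB1.ProjSpaceOver.toBase n (Spec (CommRingCat.of B))
  have h2 : IsPullback g p p' (Spec.map (CommRingCat.ofHom φ)) := by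
    have h := hsq.paste_vert (isPullback_pmap n (Spec.map (CommRingCat.ofHom φ)))
    rwa [hip] at h
  exact ⟨K', hfd, φ, hφ, hdvr, X', p', ⟨n, i', hi', rfl⟩, h2.isoPullback, h2.isoPullback_hom_snd⟩

end Groth.Agent.ProjDescent
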